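import Mathlib
import Cfsg.Prelude.Def_Characters

/-!
# S4923 design (helper18): the field of values of an element

`valField g` is the subfield of `ℂ` generated over `ℚ` by the values at `g` of all irreducible
complex characters of the group.
-/

set_option autoImplicit false

namespace Cfsg.Agent.Helper18.FV

/-- the field generated over `ℚ` by the values at `g` of the irreducible characters -/
noncomputable def valField {G : Type*} [Group G] (g : G) : IntermediateField ℚ ℂ :=
  IntermediateField.adjoin ℚ {z : ℂ | ∃ χ : Cfsg.IrrCharacter G, (χ : G → ℂ) g = z}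

theorem valField_def {G : Type*} [Group G] (g : G) :
    valField g =
      IntermediateField.adjoin ℚ {z : ℂ | ∃ χ : Cfsg.IrrCharacter G, (χ : G → ℂ) g = z} := rfl

theorem mem_valField {G : Type*} [Group G] (g : G) (χ : Cfsg.IrrCharacter G) :
    (χ : G → ℂ) g ∈ valField g :=
  IntermediateField.subset_adjoin ℚ _ ⟨χ, rfl⟩

theorem valField_le_iff {G : Type*} [Group G] (g : G) (K : IntermediateField ℚ ℂ) :
    valField g ≤ K ↔ ∀ χ : Cfsg.IrrCharacter G, (χ : G → ℂ) g ∈ K := by
  rw [valField, IntermediateField.adjoin_le_iff]
  constructor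
  · intro h χ
    exact h ⟨χ, rfl⟩
  · rintro h z ⟨χ, rfl⟩
    exact h χ

end Cfsg.Agent.Helper18.FV
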