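import Mathlib
import Cfsg.Agent.Lib.FV.FVDefs

/-! S4923 piece FV-ABEL (helper18 design; see plans/S4923_plan.md). Proof by helper19. -/

set_option autoImplicit false

namespace Cfsg.Agent.Helper18.FV

open Cfsg

theorem not_two_dvd_index_of_comm {G : Type*} [Group G] [Finite G] (P : Sylow 2 G) {g : G} (hg : g ∈ (P : Subgroup G))
    (hc : ∀ x ∈ (P : Subgroup G), ∀ y ∈ (P : Subgroup G), x * y = y * x) :
    ¬ 2 ∣ (Subgroup.centralizer ({g} : Set G)).index := by
  have hle : (P : Subgroup G) ≤ Subgroup.centralizer ({g} : Set G) := by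
    intro x hx
    rw [Subgroup.mem_centralizer_singleton_iff]
    exact hc x hx g hg
  have hdvd := Subgroup.index_dvd_of_le hle
  have hf : Fact (Nat.Prime 2) := ⟨Nat.prime_two⟩
  intro h2
  exact P.not_dvd_index (h2.trans hdvd)

end Cfsg.Agent.Helper18.FV
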