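import Mathlib
import Cfsg.Agent.Lib.FV.FVDefs

/-! S4923 piece FV-ROOTMEM (helper18 design; see plans/S4923_plan.md): a `2^(n-2)`-th root of unity is a power
of `ζ²`, hence lies in `ℚ(ζ²)`. -/

set_option autoImplicit false

namespace Cfsg.Agent.Helper18.FV

open Cfsg

theorem root_mem_adjoin_sq {n : ℕ} (hn : 3 ≤ n) {ζ : ℂ} (hζ : IsPrimitiveRoot ζ (2 ^ (n - 1)))
    {μ : ℂ} (hμ : μ ^ (2 ^ (n - 2)) = 1) :
    μ ∈ IntermediateField.adjoin ℚ ({ζ ^ 2} : Set ℂ) := by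
  have hsplit : 2 ^ (n - 1) = 2 * 2 ^ (n - 2) := by
    rw [← pow_succ']; congr 1; omega
  have hζ2 : IsPrimitiveRoot (ζ ^ 2) (2 ^ (n - 2)) := hζ.pow (by positivity) hsplit
  haveI : NeZero (2 ^ (n - 2)) := ⟨by positivity⟩
  obtain ⟨i, -, hi⟩ := hζ2.eq_pow_of_pow_eq_one hμ
  rw [← hi]
  exact pow_mem (IntermediateField.subset_adjoin ℚ _ (Set.mem_singleton _)) i

end Cfsg.Agent.Helper18.FV
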