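import Mathlib
import Cfsg.Agent.Lib.FV.FVDefs
import Cfsg.Agent.Lib.Helper24.CharBasic
import Cfsg.Agent.Lib.Helper23.PrincipalQuot

/-! S4923 piece FV-ROOTS (helper18 design; see plans/S4923_plan.md): the eigenvalues of `ρ g` are `m`-th roots of
unity when `g ^ m = 1`, and the character values on the powers of `g` are their power sums. -/

set_option autoImplicit false

namespace Cfsg.Agent.Helper18.FV

open Cfsg

theorem exists_roots_of_pow_eq_one {G : Type*} [Group G] [Finite G] (χ : IrrCharacter G) (g : G) {m : ℕ} (hm : 0 < m)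
    (hg : g ^ m = 1) :
    ∃ (d : ℕ) (μ : Fin d → ℂ), (∀ i, μ i ^ m = 1) ∧
      ∀ k : ℕ, (χ : G → ℂ) (g ^ k) = ∑ i, μ i ^ k := by
  obtain ⟨n, ρ, -, hρχ⟩ := χ.2
  have hpow : (ρ g) ^ m = 1 := by rw [← map_pow, hg, map_one]
  obtain ⟨d, b, μ, hμ, hb⟩ := Cfsg.Agent.Helper24.exists_eigenbasis_of_pow_eq_one (ρ g) hm hpow
  refine ⟨d, μ, hμ, ?_⟩
  intro k
  rw [← hρχ]
  show LinearMap.trace ℂ _ (ρ (g ^ k)) = _
  apply Cfsg.Agent.Helper24.trace_eq_sum_of_eigenbasis b
  intro i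
  rw [map_pow]
  induction k with
  | zero => simp
  | succ k ih =>
    rw [pow_succ, Module.End.mul_apply, hb i, map_smul, ih, smul_smul, pow_succ]
    ring_nf

end Cfsg.Agent.Helper18.FV
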