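import Mathlib
import Cfsg.Agent.Lib.FV.FVDefs
import Cfsg.Agent.Lib.FV.FVROOTS
import Cfsg.Agent.Lib.FV.FVROOTMEM

/-! S4923 piece FV-MOD (helper18 design; see plans/S4923_plan.md). Proof by helper19. -/

set_option autoImplicit false

namespace Cfsg.Agent.Helper18.FV

open Cfsg

theorem valField_le_sq_of_conj {G : Type*} [Group G] [Finite G] {g : G} {n : ℕ} (hn : 4 ≤ n) (hg : g ^ (2 ^ (n - 1)) = 1) {ζ : ℂ}
    (hζ : IsPrimitiveRoot ζ (2 ^ (n - 1)))
    (hconj : ∃ x : G, x * g * x⁻¹ = g * g ^ (2 ^ (n - 2))) :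
    valField g ≤ IntermediateField.adjoin ℚ ({ζ ^ 2} : Set ℂ) := by
  rw [valField_le_iff]
  intro χ
  have hm : 0 < 2 ^ (n - 1) := pow_pos two_pos _
  obtain ⟨d, μ, hμ, hχ⟩ := exists_roots_of_pow_eq_one χ g hm hg
  obtain ⟨x, hx⟩ := hconj
  have hcf : ∀ a b : G, (χ : G → ℂ) (b * a * b⁻¹) = (χ : G → ℂ) a := by
    obtain ⟨n', ρ, -, hρ⟩ := χ.2
    intro a b
    rw [← hρ]
    exact Representation.char_conj ρ a b
  have h1 : (χ : G → ℂ) g = ∑ i, μ i := by
    have := hχ 1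
    simpa using this
  have hgk : g * g ^ (2 ^ (n - 2)) = g ^ (1 + 2 ^ (n - 2)) := by
    rw [pow_add, pow_one]
  have hk : (χ : G → ℂ) g = ∑ i, μ i * μ i ^ (2 ^ (n - 2)) := by
    have h := hχ (1 + 2 ^ (n - 2))
    rw [← hgk, ← hx, hcf] at h
    rw [h]
    apply Finset.sum_congr rfl
    intro i _
    rw [pow_add, pow_one]
  have h2 : (χ : G → ℂ) g = (∑ i, μ i * (1 + μ i ^ (2 ^ (n - 2)))) / 2 := by
    have h3 : (∑ i, μ i * (1 + μ i ^ (2 ^ (n - 2)))) = (∑ i, μ i) + ∑ i, μ i * μ i ^ (2 ^ (n - 2)) := by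
      rw [← Finset.sum_add_distrib]
      apply Finset.sum_congr rfl
      intro i _
      ring
    rw [h3, ← h1, ← hk]
    ring
  rw [h2]
  have hsum : (∑ i, μ i * (1 + μ i ^ (2 ^ (n - 2)))) ∈ IntermediateField.adjoin ℚ ({ζ ^ 2} : Set ℂ) := by
    apply sum_mem
    intro i _
    have hsq : (μ i ^ (2 ^ (n - 2))) ^ 2 = 1 := by
      rw [← pow_mul, ← pow_succ]
      have : n - 2 + 1 = n - 1 := by omega
      rw [this]
      exact hμ i
    rcases sq_eq_one_iff.1 hsq with h | h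
    · rw [h]
      have hmem := root_mem_adjoin_sq (n := n) (by omega) hζ h
      have h2mem : ((1 : ℂ) + 1) ∈ IntermediateField.adjoin ℚ ({ζ ^ 2} : Set ℂ) :=
        add_mem (one_mem _) (one_mem _)
      exact mul_mem hmem h2mem
    · rw [h]
      have : μ i * (1 + -1) = 0 := by ring
      rw [this]
      exact zero_mem _
  have h2mem : (2 : ℂ) ∈ IntermediateField.adjoin ℚ ({ζ ^ 2} : Set ℂ) := by
    exact add_mem (one_mem _) (one_mem _) |> fun h => by
      have h2 : (2 : ℂ) = 1 + 1 := by norm_num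
      rw [h2]; exact h
  exact div_mem hsum h2mem

end Cfsg.Agent.Helper18.FV
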