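import Mathlib
import Cfsg.Agent.Lib.FV.FVDefs
import Cfsg.Agent.Lib.Helper16.Taussky
import Cfsg.Agent.Lib.Helper16.DSQAb
import Cfsg.Agent.Lib.Helper16.DSQRecog

/-! S4923 piece FV-MODCONJ (helper18 design; see plans/S4923_plan.md). -/

set_option autoImplicit false

namespace Cfsg.Agent.Helper18.FV

open Cfsg Cfsg.Agent.Helper16

open scoped commutatorElement

theorem exists_conj_modular {X : Type*} [Group X] [Finite X] {a : X} {k : ℕ} (hk : 3 ≤ k)
    (hcard : Nat.card X = 2 ^ (k + 1)) (hao : orderOf a = 2 ^ k)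
    (hcomm : commutator X ≤ Subgroup.zpowers (a ^ 2 ^ (k - 1)))
    (hnc : ∃ x y : X, x * y ≠ y * x) :
    ∃ x : X, x * a * x⁻¹ = a * a ^ 2 ^ (k - 1) := by
  classical
  set z := a ^ 2 ^ (k - 1) with hz
  have hz2 : z ^ 2 = 1 := by
    rw [hz, ← pow_mul, ← pow_succ]
    have : k - 1 + 1 = k := by omega
    rw [this, ← hao, pow_orderOf_eq_one]
  -- some x does not commute with a
  have hex : ∃ x : X, x * a ≠ a * x := by
    by_contra hall
    push Not at hall
    obtain ⟨x, y, hxy⟩ := hnc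
    apply hxy
    -- index two
    have hidx : (Subgroup.zpowers a).index = 2 := by
      have h1 := Subgroup.card_mul_index (Subgroup.zpowers a)
      rw [Nat.card_zpowers, hao, hcard, pow_succ] at h1
      exact Nat.eq_of_mul_eq_mul_left (by positivity) h1
    have hcentH : ∀ h ∈ Subgroup.zpowers a, ∀ c : X, c * h = h * c := by
      intro h hh c
      obtain ⟨j, rfl⟩ := Subgroup.mem_zpowers_iff.1 hh
      have : Commute c a := hall c
      exact this.zpow_right j
    by_cases hxH : x ∈ Subgroup.zpowers a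
    · exact (hcentH x hxH y).symm
    by_cases hyH : y ∈ Subgroup.zpowers a
    · exact hcentH y hyH x
    have hmem : x⁻¹ * y ∈ Subgroup.zpowers a := by
      rw [Subgroup.mul_mem_iff_of_index_two hidx, inv_mem_iff]
      exact ⟨fun h => absurd h hxH, fun h => absurd h hyH⟩
    have e : y = x * (x⁻¹ * y) := by group
    have h1 := hcentH _ hmem x
    rw [e]
    calc x * (x * (x⁻¹ * y)) = x * ((x⁻¹ * y) * x) := by rw [h1]
      _ = x * (x⁻¹ * y) * x := by group
  obtain ⟨x, hx⟩ := hex
  refine ⟨x, ?_⟩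
  have hmem : ⁅x, a⁆ ∈ Subgroup.zpowers z :=
    hcomm (Subgroup.commutator_mem_commutator (Subgroup.mem_top x) (Subgroup.mem_top a))
  obtain ⟨j, hj⟩ := Subgroup.mem_zpowers_iff.1 hmem
  have hne : ⁅x, a⁆ ≠ 1 := by
    intro h
    rw [commutatorElement_eq_one_iff_mul_comm] at h
    exact hx h
  have hzj : z ^ j = z := by
    rcases Int.even_or_odd j with ⟨m, hm⟩ | ⟨m, hm⟩
    · exfalso
      apply hne
      rw [← hj, hm, ← two_mul, zpow_mul, zpow_ofNat, hz2, one_zpow]
    · rw [hm, zpow_add, zpow_mul, zpow_ofNat, hz2, one_zpow, one_mul, zpow_one]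
  rw [hzj] at hj
  have : x * a * x⁻¹ = ⁅x, a⁆ * a := by
    rw [commutatorElement_def]; group
  rw [this, ← hj]
  -- z * a = a * z
  rw [hz]
  exact ((Commute.refl a).pow_left _).eq

end Cfsg.Agent.Helper18.FV
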