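import Mathlib
import Cfsg.Agent.Lib.FV.FVDefs
import Cfsg.Agent.Lib.Helper16.Taussky
import Cfsg.Agent.Lib.Helper16.DSQAb
import Cfsg.Agent.Lib.Helper16.DSQRecog
import Cfsg.Agent.Lib.Helper16.MaxClassTwo

/-! S4923 piece FV-ORD8 (helper18 design; see plans/S4923_plan.md).

A noncommutative group of order 8 has `[X : X'] = 4`. -/

set_option autoImplicit false

namespace Cfsg.Agent.Helper18.FV

open Cfsg Cfsg.Agent.Helper16

theorem index_commutator_of_card_eight {X : Type*} [Group X] [Finite X] (hX : Nat.card X = 8)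
    (hnc : ∃ x y : X, x * y ≠ y * x) : (commutator X).index = 4 := by
  have hnc' : ¬ IsMulCommutative X := by
    rintro ⟨⟨h⟩⟩
    obtain ⟨x, y, hxy⟩ := hnc
    exact hxy (h x y)
  obtain ⟨a, ha⟩ := exists_orderOf_four_of_card_eight hX hnc'
  have hcard : Nat.card X = 2 ^ (2 + 1) := by rw [hX]; norm_num
  have hao : orderOf a = 2 ^ 2 := by rw [ha]; norm_num
  rcases isDSQ_or (k := 2) le_rfl hcard hao with h | h | ⟨x, hx⟩
  · exact absurd h hnc'
  · omega
  · exact hx.index_commutator

end Cfsg.Agent.Helper18.FV
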