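import Mathlib
import Cfsg.Agent.Lib.FV.FVDefs

/-! S4923 piece FV-NOTMEM (helper18 design; see plans/S4923_plan.md): `ζ ∉ ℚ(ζ²)` for a primitive
`2^(n-1)`-th root of unity, `n ≥ 3`, by comparing the degrees of the two cyclotomic fields. -/

set_option autoImplicit false

namespace Cfsg.Agent.Helper18.FV

open Cfsg

/-- degree of the field generated by a primitive root of unity -/
theorem finrank_adjoin_primitiveRoot {N : ℕ} (hN : 0 < N) {ζ : ℂ} (hζ : IsPrimitiveRoot ζ N) :
    Module.finrank ℚ (IntermediateField.adjoin ℚ ({ζ} : Set ℂ)) = Nat.totient N := by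
  have hint : IsIntegral ℚ ζ := (hζ.isIntegral hN).tower_top
  rw [IntermediateField.adjoin.finrank hint, ← Polynomial.cyclotomic_eq_minpoly_rat hζ hN,
    Polynomial.natDegree_cyclotomic]

theorem not_mem_adjoin_sq {n : ℕ} (hn : 3 ≤ n) {ζ : ℂ} (hζ : IsPrimitiveRoot ζ (2 ^ (n - 1))) :
    ζ ∉ IntermediateField.adjoin ℚ ({ζ ^ 2} : Set ℂ) := by
  intro hmem
  have hsplit : 2 ^ (n - 1) = 2 * 2 ^ (n - 2) := by
    rw [← pow_succ']; congr 1; omega
  have hζ2 : IsPrimitiveRoot (ζ ^ 2) (2 ^ (n - 2)) := hζ.pow (by positivity) hsplit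
  have h1 := finrank_adjoin_primitiveRoot (by positivity) hζ
  have h2 := finrank_adjoin_primitiveRoot (by positivity) hζ2
  have hint2 : IsIntegral ℚ (ζ ^ 2) := (hζ2.isIntegral (by positivity)).tower_top
  have : FiniteDimensional ℚ (IntermediateField.adjoin ℚ ({ζ ^ 2} : Set ℂ)) :=
    IntermediateField.adjoin.finiteDimensional hint2
  have hle : IntermediateField.adjoin ℚ ({ζ} : Set ℂ) ≤
      IntermediateField.adjoin ℚ ({ζ ^ 2} : Set ℂ) := by
    rw [IntermediateField.adjoin_le_iff, Set.singleton_subset_iff]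
    exact hmem
  have h3 := IntermediateField.finrank_le_of_le_right hle
  rw [h1, h2] at h3
  have e1 : n - 1 = (n - 2) + 1 := by omega
  have t1 : Nat.totient (2 ^ (n - 1)) = 2 ^ (n - 2) := by
    rw [e1, Nat.totient_prime_pow_succ Nat.prime_two]; simp
  rw [t1] at h3
  rcases Nat.eq_or_lt_of_le hn with h3' | h4
  · have : n - 2 = 1 := by omega
    rw [this] at h3
    norm_num at h3
  · have e2 : n - 2 = (n - 3) + 1 := by omega
    have t2 : Nat.totient (2 ^ (n - 2)) = 2 ^ (n - 3) := by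
      rw [e2, Nat.totient_prime_pow_succ Nat.prime_two]; simp
    rw [t2] at h3
    have : 2 ^ (n - 3) < 2 ^ (n - 2) := Nat.pow_lt_pow_right (by norm_num) (by omega)
    omega

end Cfsg.Agent.Helper18.FV
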