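import Mathlib
import Cfsg.Agent.Lib.FV.FVDefs
import Cfsg.Agent.Lib.FV.FVNOTMEM

/-! S4923 piece FV-PMNOT (helper18 design; see plans/S4923_plan.md): `ζ ± ζ⁻¹ ∉ ℚ(ζ²)` for a primitive
`2^(n-1)`-th root of unity, `n ≥ 4`. -/

set_option autoImplicit false

namespace Cfsg.Agent.Helper18.FV

open Cfsg

theorem add_inv_not_mem {n : ℕ} (hn : 4 ≤ n) {ζ : ℂ} (hζ : IsPrimitiveRoot ζ (2 ^ (n - 1))) :
    ζ + ζ⁻¹ ∉ IntermediateField.adjoin ℚ ({ζ ^ 2} : Set ℂ) := by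
  intro hb
  set K := IntermediateField.adjoin ℚ ({ζ ^ 2} : Set ℂ) with hK
  have hζ0 : ζ ≠ 0 := hζ.ne_zero (by positivity)
  have hsq : ζ ^ 2 ∈ K := IntermediateField.subset_adjoin ℚ _ (Set.mem_singleton _)
  have hrel : ζ ^ 2 + 1 = (ζ + ζ⁻¹) * ζ := by field_simp
  by_cases h0 : ζ + ζ⁻¹ = 0
  · -- then ζ ^ 4 = 1
    have h2 : ζ ^ 2 = -1 := by
      rw [h0, zero_mul] at hrel
      exact eq_neg_of_add_eq_zero_left hrel
    have h4 : ζ ^ 4 = 1 := by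
      have : ζ ^ 4 = (ζ ^ 2) ^ 2 := by ring
      rw [this, h2]; norm_num
    have hdvd := hζ.dvd_of_pow_eq_one 4 h4
    have h8 : 8 ≤ 2 ^ (n - 1) := by
      calc 8 = 2 ^ 3 := by norm_num
        _ ≤ 2 ^ (n - 1) := Nat.pow_le_pow_right (by norm_num) (by omega)
    have := Nat.le_of_dvd (by norm_num) hdvd
    omega
  · apply not_mem_adjoin_sq (by omega) hζ
    have h1 : (1 : ℂ) ∈ K := K.one_mem
    have hz : (ζ ^ 2 + 1) / (ζ + ζ⁻¹) ∈ K := K.div_mem (K.add_mem hsq h1) hb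
    rw [hrel, mul_div_cancel_left₀ ζ h0] at hz
    exact hz

theorem sub_inv_not_mem {n : ℕ} (hn : 4 ≤ n) {ζ : ℂ} (hζ : IsPrimitiveRoot ζ (2 ^ (n - 1))) :
    ζ - ζ⁻¹ ∉ IntermediateField.adjoin ℚ ({ζ ^ 2} : Set ℂ) := by
  intro hb
  set K := IntermediateField.adjoin ℚ ({ζ ^ 2} : Set ℂ) with hK
  have hζ0 : ζ ≠ 0 := hζ.ne_zero (by positivity)
  have hsq : ζ ^ 2 ∈ K := IntermediateField.subset_adjoin ℚ _ (Set.mem_singleton _)
  have hrel : ζ ^ 2 - 1 = (ζ - ζ⁻¹) * ζ := by field_simp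
  by_cases h0 : ζ - ζ⁻¹ = 0
  · have h2 : ζ ^ 2 = 1 := by
      rw [h0, zero_mul] at hrel
      exact sub_eq_zero.mp hrel
    have hdvd := hζ.dvd_of_pow_eq_one 2 h2
    have h8 : 8 ≤ 2 ^ (n - 1) := by
      calc 8 = 2 ^ 3 := by norm_num
        _ ≤ 2 ^ (n - 1) := Nat.pow_le_pow_right (by norm_num) (by omega)
    have := Nat.le_of_dvd (by norm_num) hdvd
    omega
  · apply not_mem_adjoin_sq (by omega) hζ
    have h1 : (1 : ℂ) ∈ K := K.one_mem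
    have hz : (ζ ^ 2 - 1) / (ζ - ζ⁻¹) ∈ K := K.div_mem (K.sub_mem hsq h1) hb
    rw [hrel, mul_div_cancel_left₀ ζ h0] at hz
    exact hz

end Cfsg.Agent.Helper18.FV
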