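import Mathlib
import Cfsg.Agent.Lib.FV.FVDefs
import Cfsg.Agent.Lib.FV.FVROOTS
import Cfsg.Agent.Lib.FV.FVROOTMEM

/-! S4923 piece FV-SMALL (helper18 design; see plans/S4923_plan.md): if `g ^ 2^(n-2) = 1` then all character
values at `g` lie in `ℚ(ζ²)`. -/

set_option autoImplicit false

namespace Cfsg.Agent.Helper18.FV

open Cfsg

theorem valField_le_sq_of_pow {G : Type*} [Group G] [Finite G] {g : G} {n : ℕ} (hn : 3 ≤ n) (hg : g ^ (2 ^ (n - 2)) = 1) {ζ : ℂ}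
    (hζ : IsPrimitiveRoot ζ (2 ^ (n - 1))) :
    valField g ≤ IntermediateField.adjoin ℚ ({ζ ^ 2} : Set ℂ) := by
  rw [valField_le_iff]
  intro χ
  obtain ⟨d, μ, hμ, hsum⟩ := exists_roots_of_pow_eq_one χ g (by positivity) hg
  have h1 := hsum 1
  simp only [pow_one] at h1
  rw [h1]
  exact sum_mem fun i _ => root_mem_adjoin_sq hn hζ (hμ i)

end Cfsg.Agent.Helper18.FV
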