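import Mathlib
import Cfsg.Agent.Lib.FV.FVDefs
import Cfsg.Agent.Lib.FV.FVPMNOT
import Cfsg.Agent.Lib.FV.FVMOD
import Cfsg.Agent.Lib.FV.FVSMALL
import Cfsg.Agent.Lib.FV.FVABEL
import Cfsg.Agent.Lib.FV.FVORD8
import Cfsg.Agent.Lib.FV.FVMODCONJ

/-! S4923 (helper18 design): assembly of the backward direction. -/

set_option autoImplicit false

namespace Cfsg.Agent.Helper18.FV

open Cfsg Cfsg.Agent.Helper16

variable {G : Type*} [Group G] [Finite G]

theorem backward (P : Sylow 2 G) (n : ℕ) (hn : 3 ≤ n) (hP : Nat.card P = 2 ^ n) (ζ : ℂ)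
    (hζ : IsPrimitiveRoot ζ (2 ^ (n - 1))) (g : G) (hgP : g ∈ (P : Subgroup G))
    (h2 : 2 ∣ (Subgroup.centralizer ({g} : Set G)).index)
    (hF : valField g = IntermediateField.adjoin ℚ ({ζ + ζ⁻¹} : Set ℂ) ∨
        valField g = IntermediateField.adjoin ℚ ({ζ - ζ⁻¹} : Set ℂ)) :
    (commutator ↥P).index = 4 := by
  -- `P` is not commutative
  have hnc : ∃ x ∈ (P : Subgroup G), ∃ y ∈ (P : Subgroup G), x * y ≠ y * x := by
    by_contra hcon
    push Not at hcon
    exact not_two_dvd_index_of_comm P hgP hcon h2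
  have hncX : ∃ x y : ↥(P : Subgroup G), x * y ≠ y * x := by
    obtain ⟨x, hx, y, hy, hxy⟩ := hnc
    refine ⟨⟨x, hx⟩, ⟨y, hy⟩, ?_⟩
    intro h
    exact hxy (congrArg Subtype.val h)
  have hncC : ¬ IsMulCommutative ↥(P : Subgroup G) := by
    intro hc
    obtain ⟨x, y, hxy⟩ := hncX
    exact hxy (hc.is_comm.comm x y)
  rcases Nat.eq_or_lt_of_le hn with h3 | h4
  · -- order eight
    apply index_commutator_of_card_eight (X := ↥(P : Subgroup G)) ?_ hncX
    rw [hP, ← h3]; norm_num
  · have hn4 : 4 ≤ n := h4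
    -- the value field is not inside `ℚ(ζ²)`
    have hkey : ¬ valField g ≤ IntermediateField.adjoin ℚ ({ζ ^ 2} : Set ℂ) := by
      intro hle
      rcases hF with hF | hF
      · apply add_inv_not_mem hn4 hζ
        apply hle
        rw [hF]
        exact IntermediateField.subset_adjoin ℚ _ (Set.mem_singleton _)
      · apply sub_inv_not_mem hn4 hζ
        apply hle
        rw [hF]
        exact IntermediateField.subset_adjoin ℚ _ (Set.mem_singleton _)
    -- the order of `g`
    set a : ↥(P : Subgroup G) := ⟨g, hgP⟩ with ha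
    have hoa : orderOf a = orderOf g := by rw [← Subgroup.orderOf_coe]
    have hdvd : orderOf g ∣ 2 ^ n := by
      rw [← hoa, ← hP]
      exact orderOf_dvd_natCard a
    obtain ⟨j, hjn, hj⟩ := (Nat.dvd_prime_pow Nat.prime_two).mp hdvd
    have hjcases : j ≤ n - 2 ∨ j = n - 1 ∨ j = n := by omega
    rcases hjcases with hj1 | hj1 | hj1
    · exfalso
      apply hkey
      apply valField_le_sq_of_pow (by omega) ?_ hζ
      have : 2 ^ (n - 2) = 2 ^ j * 2 ^ (n - 2 - j) := by
        rw [← pow_add]; congr 1; omega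
      rw [this, pow_mul, ← hj, pow_orderOf_eq_one, one_pow]
    · -- the main case
      have hao : orderOf a = 2 ^ (n - 1) := by rw [hoa, hj, hj1]
      have hcard : Nat.card ↥(P : Subgroup G) = 2 ^ (n - 1 + 1) := by
        rw [Nat.sub_add_cancel (by omega)]; exact hP
      rcases isDSQ_or (k := n - 1) (by omega) hcard hao with hc | ⟨h3, -, hcomm⟩ | ⟨x, hx⟩
      · exact absurd hc hncC
      · exfalso
        obtain ⟨x, hx⟩ := exists_conj_modular h3 hcard hao hcomm hncX
        apply hkey
        apply valField_le_sq_of_conj hn4 ?_ hζ ⟨(x : G), ?_⟩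
        · rw [← hj1, ← hj, pow_orderOf_eq_one]
        · have := congrArg Subtype.val hx
          have h12 : n - 1 - 1 = n - 2 := by omega
          rw [h12] at this
          simpa [ha] using this
      · exact hx.index_commutator
    · exfalso
      apply hncC
      have hcyc : IsCyclic ↥(P : Subgroup G) := by
        apply isCyclic_of_orderOf_eq_card a
        rw [hoa, hj, hj1]
        exact hP.symm
      exact hcyc.isMulCommutative

end Cfsg.Agent.Helper18.FV
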