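import Mathlib
import Cfsg.Agent.Lib.FV.FVDefs
import Cfsg.Agent.Lib.Helper16.Taussky
import Cfsg.Agent.Lib.Helper16.DSQAb
import Cfsg.Agent.Lib.Helper16.DSQRecog

/-! S4923 piece FV-DSQIDX (helper18 design; see plans/S4923_plan.md). Proof by helper19
(the `←` half of the proof of `Cfsg.Agent.S0115.result`). -/

set_option autoImplicit false

namespace Cfsg.Agent.Helper18.FV

open Cfsg Cfsg.Agent.Helper16

theorem exists_isDSQ_of_index {X : Type*} [Group X] [Finite X] (n : ℕ) (hn : 3 ≤ n)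
    (hX : Nat.card X = 2 ^ n) (hidx : (commutator X).index = 4) :
    ∃ a x : X, IsDSQ (n - 1) a x := by
  obtain ⟨a, ha⟩ := exists_orderOf_of_index_commutator n hn X hX hidx
  have hcard : Nat.card X = 2 ^ (n - 1 + 1) := by rw [hX]; congr 1; omega
  have h8 : 2 ^ 3 ≤ 2 ^ n := Nat.pow_le_pow_right (by norm_num) hn
  rcases isDSQ_or (k := n - 1) (by omega) hcard ha with h1 | ⟨h3, hzc, hcomm⟩ | ⟨x, hx⟩
  · exfalso
    rw [commutator_eq_bot, Subgroup.index_bot, hX] at hidx
    omega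
  · exfalso
    have hz2 : (a ^ 2 ^ (n - 1 - 1)) ^ 2 = 1 := pow_half_sq (by omega) ha
    have h1 : Nat.card (commutator X) ≤ 2 := by
      calc Nat.card (commutator X) ≤ Nat.card (Subgroup.zpowers (a ^ 2 ^ (n - 1 - 1))) :=
            Subgroup.card_le_of_le hcomm
        _ = orderOf (a ^ 2 ^ (n - 1 - 1)) := Nat.card_zpowers _
        _ ≤ 2 := Nat.le_of_dvd two_pos (orderOf_dvd_of_pow_eq_one hz2)
    have h2 := Subgroup.card_mul_index (commutator X)
    rw [hidx, hX] at h2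
    have h16 : 2 ^ 4 ≤ 2 ^ n := Nat.pow_le_pow_right (by norm_num) (by omega)
    omega
  · exact ⟨a, x, hx⟩

end Cfsg.Agent.Helper18.FV
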