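import Mathlib
import Cfsg.Agent.Lib.FV.FVDefs

/-! S4923 piece FV-EVEN (helper18 design; see plans/S4923_plan.md). -/

set_option autoImplicit false

namespace Cfsg.Agent.Helper18.FV

open Cfsg

open scoped Pointwise

theorem two_dvd_index_centralizer {G : Type*} [Group G] [Finite G] (P : Sylow 2 G) {n : ℕ} (hn : 1 ≤ n)
    (hP : Nat.card (P : Subgroup G) = 2 ^ n)
    (hnc : ∃ x ∈ (P : Subgroup G), ∃ y ∈ (P : Subgroup G), x * y ≠ y * x) {g : G}
    (hg : orderOf g = 2 ^ (n - 1)) :
    2 ∣ (Subgroup.centralizer ({g} : Set G)).index := by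
  classical
  by_contra hodd
  set C := Subgroup.centralizer ({g} : Set G) with hC
  have hgC : g ∈ C := by
    rw [hC, Subgroup.mem_centralizer_iff]
    intro h hh
    rw [Set.mem_singleton_iff.1 hh]
  have hfG : (Nat.card G).factorization 2 = n := by
    have := P.card_eq_multiplicity
    rw [hP] at this
    exact (Nat.pow_right_injective (le_refl 2) this).symm
  have hfC : (Nat.card C).factorization 2 = n := by
    have h1 : Nat.card C * C.index = Nat.card G := Subgroup.card_mul_index C
    have hidx : C.index.factorization 2 = 0 := Nat.factorization_eq_zero_of_not_dvd hodd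
    have h2 : (Nat.card C * C.index).factorization 2 =
        (Nat.card C).factorization 2 + C.index.factorization 2 := by
      rw [Nat.factorization_mul Nat.card_pos.ne' C.index_ne_zero_of_finite]
      rfl
    rw [h1, hfG, hidx] at h2
    omega
  let g' : C := ⟨g, hgC⟩
  have hord' : orderOf g' = 2 ^ (n - 1) := by
    rw [← hg]
    exact Subgroup.orderOf_mk g hgC
  have hgp : IsPGroup 2 (Subgroup.zpowers g') := by
    apply IsPGroup.of_card (n := n - 1)
    rw [Nat.card_zpowers, hord']
  obtain ⟨Q, hQ⟩ := hgp.exists_le_sylow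
  have hQcard : Nat.card (Q : Subgroup C) = 2 ^ n := by
    rw [Q.card_eq_multiplicity, hfC]
  have hcent : ∀ c : C, c * g' = g' * c := by
    intro c
    apply Subtype.ext
    have hc2 : (c : G) ∈ Subgroup.centralizer ({g} : Set G) := c.2
    rw [Subgroup.mem_centralizer_iff] at hc2
    have h := hc2 g (Set.mem_singleton g)
    simp only [Subgroup.coe_mul]
    exact h.symm
  have hcentH : ∀ h ∈ Subgroup.zpowers g', ∀ c : C, c * h = h * c := by
    intro h hh c
    obtain ⟨k, rfl⟩ := Subgroup.mem_zpowers_iff.1 hh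
    have : Commute c g' := hcent c
    exact (this.zpow_right k)
  -- index two
  have hidx2 : ((Subgroup.zpowers g').subgroupOf (Q : Subgroup C)).index = 2 := by
    have h1 := Subgroup.card_mul_index ((Subgroup.zpowers g').subgroupOf (Q : Subgroup C))
    have h2 : Nat.card ((Subgroup.zpowers g').subgroupOf (Q : Subgroup C)) = 2 ^ (n - 1) := by
      rw [Nat.card_congr (Subgroup.subgroupOfEquivOfLe hQ).toEquiv, Nat.card_zpowers, hord']
    rw [h2, hQcard] at h1
    have h3 : 2 ^ n = 2 ^ (n - 1) * 2 := by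
      rw [← pow_succ]
      congr 1
      omega
    rw [h3] at h1
    exact Nat.eq_of_mul_eq_mul_left (by positivity) h1
  have hQcomm : ∀ x ∈ (Q : Subgroup C), ∀ y ∈ (Q : Subgroup C), x * y = y * x := by
    intro x hx y hy
    by_cases hxH : x ∈ Subgroup.zpowers g'
    · exact (hcentH x hxH y).symm
    by_cases hyH : y ∈ Subgroup.zpowers g'
    · exact hcentH y hyH x
    have hmem : (⟨x, hx⟩ : (Q : Subgroup C))⁻¹ * ⟨y, hy⟩ ∈
        (Subgroup.zpowers g').subgroupOf (Q : Subgroup C) := by
      rw [Subgroup.mul_mem_iff_of_index_two hidx2, inv_mem_iff]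
      rw [Subgroup.mem_subgroupOf, Subgroup.mem_subgroupOf]
      exact ⟨fun h => absurd h hxH, fun h => absurd h hyH⟩
    rw [Subgroup.mem_subgroupOf] at hmem
    have hmem' : x⁻¹ * y ∈ Subgroup.zpowers g' := hmem
    have e : y = x * (x⁻¹ * y) := by group
    have h1 := hcentH _ hmem' x
    rw [e]
    calc x * (x * (x⁻¹ * y)) = x * ((x⁻¹ * y) * x) := by rw [h1]
      _ = x * (x⁻¹ * y) * x := by group
  -- transfer to G
  let Q1 : Subgroup G := (Q : Subgroup C).map C.subtype
  have hQ1card : Nat.card Q1 = 2 ^ (Nat.card G).factorization 2 := by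
    rw [hfG, ← hQcard]
    exact Nat.card_congr ((Q : Subgroup C).equivMapOfInjective C.subtype
      (Subgroup.subtype_injective C)).toEquiv.symm
  let Q2 : Sylow 2 G := Sylow.ofCard Q1 hQ1card
  obtain ⟨k, hk⟩ := MulAction.exists_smul_eq G Q2 P
  obtain ⟨x, hx, y, hy, hxy⟩ := hnc
  have hPeq : (P : Subgroup G) = MulAut.conj k • Q1 := by
    rw [← hk]
    rfl
  rw [hPeq] at hx hy
  obtain ⟨a, ha, rfl⟩ := (Subgroup.mem_smul_pointwise_iff_exists _ _ _).1 hx
  obtain ⟨b, hb, rfl⟩ := (Subgroup.mem_smul_pointwise_iff_exists _ _ _).1 hy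
  obtain ⟨a', ha', rfl⟩ := Subgroup.mem_map.1 ha
  obtain ⟨b', hb', rfl⟩ := Subgroup.mem_map.1 hb
  apply hxy
  have := hQcomm a' ha' b' hb'
  have h2 : (a' : G) * b' = b' * a' := by
    have := congrArg Subtype.val this
    simpa using this
  simp only [MulAut.smul_def, MulAut.conj_apply, Subgroup.coe_subtype]
  calc k * ↑a' * k⁻¹ * (k * ↑b' * k⁻¹) = k * (↑a' * ↑b') * k⁻¹ := by group
    _ = k * (↑b' * ↑a') * k⁻¹ := by rw [h2]
    _ = k * ↑b' * k⁻¹ * (k * ↑a' * k⁻¹) := by group

end Cfsg.Agent.Helper18.FV
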