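import Mathlib
import Cfsg.Agent.Lib.FV.FVDefs

/-! S4923 piece FV-FUSION (helper18 design; see plans/S4923_plan.md).  Proved by helper15.

A Sylow 2-subgroup `P` normalizing the cyclic 2-group `⟨a⟩` controls the `G`-fusion of `a` inside `⟨a⟩`.
-/

set_option autoImplicit false

namespace Cfsg.Agent.Helper18.FV

open Cfsg

open scoped Pointwise

theorem exists_mem_sylow_conj_eq {G : Type*} [Group G] [Finite G] (P : Sylow 2 G) {a : G} {k : ℕ} (hao : orderOf a = 2 ^ k)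
    (hnorm : ∀ x ∈ (P : Subgroup G), x * a * x⁻¹ ∈ Subgroup.zpowers a) (y : G)
    (hy : y * a * y⁻¹ ∈ Subgroup.zpowers a) :
    ∃ x ∈ (P : Subgroup G), y * a * y⁻¹ = x * a * x⁻¹ := by
  classical
  set A : Subgroup G := Subgroup.zpowers a with hA
  have hconjA : ∀ g : G, g * a * g⁻¹ ∈ A → ∀ n ∈ (A : Set G), g * n * g⁻¹ ∈ (A : Set G) := by
    intro g hg n hn
    obtain ⟨m, rfl⟩ := Subgroup.mem_zpowers_iff.1 hn
    have e : g * a ^ m * g⁻¹ = (g * a * g⁻¹) ^ m := by rw [conj_zpow]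
    rw [e]
    exact A.zpow_mem hg m
  set N : Subgroup G := Subgroup.normalizer (A : Set G) with hN
  have hmemN : ∀ g : G, g * a * g⁻¹ ∈ A → g ∈ N :=
    fun g hg => Subgroup.mem_normalizer_fintype (hconjA g hg)
  have hPN : (P : Subgroup G) ≤ N := fun x hx => hmemN x (hnorm x hx)
  have hyN : y ∈ N := hmemN y hy
  have hAN : A ≤ N := Subgroup.le_normalizer
  set A' : Subgroup ↥N := A.subgroupOf N with hA'
  have hA'n : A'.Normal := Subgroup.normal_in_normalizer
  set φ : ↥N →* MulAut ↥A' := MulAut.conjNormal with hφ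
  have hcyc : IsCyclic ↥A' :=
    isCyclic_of_surjective (Subgroup.subgroupOfEquivOfLe hAN).symm
      (Subgroup.subgroupOfEquivOfLe hAN).symm.surjective
  have hcardA' : Nat.card ↥A' = 2 ^ k := by
    rw [Nat.card_congr (Subgroup.subgroupOfEquivOfLe hAN).toEquiv, Nat.card_zpowers, hao]
  have hcardAut : ∃ m, Nat.card (MulAut ↥A') = 2 ^ m := by
    rw [IsCyclic.card_mulAut, hcardA']
    rcases Nat.eq_zero_or_pos k with rfl | hk
    · exact ⟨0, by simp⟩
    · exact ⟨k - 1, by rw [Nat.totient_prime_pow Nat.prime_two hk]; simp⟩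
  have hker_index : ∃ m, φ.ker.index = 2 ^ m := by
    rw [Subgroup.index_ker]
    obtain ⟨m, hm⟩ := hcardAut
    have h1 : Nat.card ↥φ.range ∣ 2 ^ m := hm ▸ Subgroup.card_subgroup_dvd_card φ.range
    obtain ⟨j, -, hj⟩ := (Nat.dvd_prime_pow Nat.prime_two).1 h1
    exact ⟨j, hj⟩
  set P' : Subgroup ↥N := (P : Subgroup G).subgroupOf N with hP'
  have hP'odd : ¬ 2 ∣ P'.index := by
    have h1 : P'.index ∣ (P : Subgroup G).index := Subgroup.relIndex_dvd_index_of_le hPN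
    intro h2
    exact P.not_dvd_index (dvd_trans h2 h1)
  have hsup : P' ⊔ φ.ker = ⊤ := by
    rw [← Subgroup.index_eq_one]
    have d1 : (P' ⊔ φ.ker).index ∣ P'.index := Subgroup.index_dvd_of_le le_sup_left
    have d2 : (P' ⊔ φ.ker).index ∣ φ.ker.index := Subgroup.index_dvd_of_le le_sup_right
    obtain ⟨m, hm⟩ := hker_index
    rw [hm] at d2
    obtain ⟨j, -, hj⟩ := (Nat.dvd_prime_pow Nat.prime_two).1 d2
    rcases Nat.eq_zero_or_pos j with rfl | hjpos
    · simpa using hj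
    · exfalso
      apply hP'odd
      refine dvd_trans ?_ d1
      rw [hj]
      exact dvd_pow_self 2 hjpos.ne'
  have hy' : (⟨y, hyN⟩ : ↥N) ∈ ((P' ⊔ φ.ker : Subgroup ↥N) : Set ↥N) := by
    rw [hsup]; trivial
  rw [Subgroup.mul_normal, Set.mem_mul] at hy'
  obtain ⟨x, hx, c, hc, hxc⟩ := hy'
  have hxP : (x : G) ∈ (P : Subgroup G) := hx
  refine ⟨(x : G), hxP, ?_⟩
  have haN : a ∈ N := hAN (Subgroup.mem_zpowers a)
  have ha' : (⟨a, haN⟩ : ↥N) ∈ A' := by
    rw [hA', Subgroup.mem_subgroupOf]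
    exact Subgroup.mem_zpowers a
  have hca : (c : G) * a * (c : G)⁻¹ = a := by
    have h1 : φ c = 1 := MonoidHom.mem_ker.1 hc
    have h2 : (φ c) ⟨⟨a, haN⟩, ha'⟩ = ⟨⟨a, haN⟩, ha'⟩ := by rw [h1]; rfl
    have h3 := congrArg (fun z : ↥A' => ((z : ↥N) : G)) h2
    simpa [hφ, MulAut.conjNormal_apply] using h3
  have hyxc : y = (x : G) * (c : G) := by
    have := congrArg Subtype.val hxc
    simpa using this.symm
  rw [hyxc]
  calc (x : G) * (c : G) * a * ((x : G) * (c : G))⁻¹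
      = (x : G) * ((c : G) * a * (c : G)⁻¹) * (x : G)⁻¹ := by group
    _ = (x : G) * a * (x : G)⁻¹ := by rw [hca]

end Cfsg.Agent.Helper18.FV
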