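import Mathlib
import Cfsg.Agent.Lib.FV.FVDefs
import Cfsg.Agent.Lib.FV.FVFUSION
import Cfsg.Agent.Lib.Helper16.DSQ

/-! S4923 piece FV-FUSDSQ (helper18 design; see plans/S4923_plan.md).  Proved by helper15.

`{i < 2^k | a^i ~_G a} = {1, e mod 2^k}` when the Sylow 2-subgroup `P` is of type `IsDSQ k a x` with `x a x⁻¹ = a^e`.
-/

set_option autoImplicit false

namespace Cfsg.Agent.Helper18.FV

open Cfsg Cfsg.Agent.Helper16

theorem isConj_pow_iff {G : Type*} [Group G] [Finite G] (P : Sylow 2 G) {k : ℕ} {a x : ↥(P : Subgroup G)} (h : IsDSQ k a x) (e : ℕ)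
    (he : x * a * x⁻¹ = a ^ e) (i : ℕ) (hi : i < 2 ^ k) :
    IsConj ((a : G) ^ i) (a : G) ↔ i = 1 ∨ i = e % 2 ^ k := by
  have hk := h.hk
  have hao : orderOf (a : G) = 2 ^ k := by rw [Subgroup.orderOf_coe]; exact h.hao
  have h1lt : 1 < 2 ^ k := by
    calc 1 < 2 ^ 2 := by norm_num
      _ ≤ 2 ^ k := Nat.pow_le_pow_right (by norm_num) hk
  have heG : (x : G) * (a : G) * (x : G)⁻¹ = (a : G) ^ e := by
    have := congrArg (fun z : ↥(P : Subgroup G) => (z : G)) he
    simpa using this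
  -- conjugation by elements of `P`
  have hconjP : ∀ g ∈ (P : Subgroup G), g * (a : G) * g⁻¹ = (a : G) ∨ g * (a : G) * g⁻¹ = (a : G) ^ e := by
    intro g hg
    obtain ⟨j, hj | hj⟩ := h.gen ⟨g, hg⟩
    · left
      have hg' : g = (a : G) ^ j := by
        have := congrArg (fun z : ↥(P : Subgroup G) => (z : G)) hj
        simpa using this
      rw [hg']
      have : (a : G) ^ j * (a : G) = (a : G) * (a : G) ^ j := by rw [← pow_succ, ← pow_succ']
      rw [this]; group
    · right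
      have hg' : g = (x : G) * (a : G) ^ j := by
        have := congrArg (fun z : ↥(P : Subgroup G) => (z : G)) hj
        simpa using this
      rw [hg', ← heG]
      have : (a : G) ^ j * (a : G) = (a : G) * (a : G) ^ j := by rw [← pow_succ, ← pow_succ']
      calc (x : G) * (a : G) ^ j * (a : G) * ((x : G) * (a : G) ^ j)⁻¹
          = (x : G) * ((a : G) ^ j * (a : G)) * ((a : G) ^ j)⁻¹ * (x : G)⁻¹ := by group
        _ = (x : G) * ((a : G) * (a : G) ^ j) * ((a : G) ^ j)⁻¹ * (x : G)⁻¹ := by rw [this]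
        _ = (x : G) * (a : G) * (x : G)⁻¹ := by group
  constructor
  · intro hc
    rw [isConj_iff] at hc
    obtain ⟨c, hc⟩ := hc
    -- y = c⁻¹ : y a y⁻¹ = a ^ i
    have hy : c⁻¹ * (a : G) * c⁻¹⁻¹ = (a : G) ^ i := by
      have h0 : c⁻¹ * (c * (a : G) ^ i * c⁻¹) * c⁻¹⁻¹ = (a : G) ^ i := by group
      rw [hc] at h0
      exact h0
    have hnorm : ∀ g ∈ (P : Subgroup G), g * (a : G) * g⁻¹ ∈ Subgroup.zpowers (a : G) := by
      intro g hg
      rcases hconjP g hg with h1 | h1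
      · rw [h1]; exact Subgroup.mem_zpowers _
      · rw [h1]; exact Subgroup.npow_mem_zpowers _ _
    have hymem : c⁻¹ * (a : G) * c⁻¹⁻¹ ∈ Subgroup.zpowers (a : G) := by
      rw [hy]; exact Subgroup.npow_mem_zpowers _ _
    obtain ⟨g, hg, hgy⟩ := exists_mem_sylow_conj_eq P hao hnorm c⁻¹ hymem
    rw [hy] at hgy
    rcases hconjP g hg with h1 | h1
    · left
      rw [h1] at hgy
      have h2 : (a : G) ^ i = (a : G) ^ 1 := by rw [pow_one]; exact hgy
      rw [pow_eq_pow_iff_modEq, hao] at h2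
      have := Nat.ModEq.eq_of_lt_of_lt h2 hi h1lt
      exact this
    · right
      rw [h1] at hgy
      rw [pow_eq_pow_iff_modEq, hao] at hgy
      have h3 : i ≡ e % 2 ^ k [MOD 2 ^ k] := hgy.trans (Nat.mod_modEq e (2 ^ k)).symm
      exact Nat.ModEq.eq_of_lt_of_lt h3 hi (Nat.mod_lt _ (by positivity))
  · rintro (rfl | rfl)
    · rw [pow_one]
    · have h2 : (a : G) ^ (e % 2 ^ k) = (a : G) ^ e := by
        rw [← hao]; exact pow_mod_orderOf _ _
      rw [h2, ← heG, isConj_iff]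
      exact ⟨(x : G)⁻¹, by group⟩

end Cfsg.Agent.Helper18.FV
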