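import Mathlib
import Cfsg.Agent.Lib.FV.FVDefs
import Cfsg.Agent.Lib.Helper24.CharComplete

/-! S4923 piece FV-GESUM (helper18 design; see plans/S4923_plan.md): the second orthogonality relation
evaluates `∑_χ c_χ χ(g)`, where `c_χ` is the multiplicity of the eigenvalue `ζ`, as
`(|C_G(g)| / m) (ζ + ζ^k)` when `g` is fused in `⟨g⟩` exactly to `g` and `g^k`. -/

set_option autoImplicit false

namespace Cfsg.Agent.Helper18.FV

open Cfsg

open scoped ComplexConjugate

theorem finsum_mult_mul_eq {G : Type*} [Group G] [Finite G] {g : G} {m : ℕ} (hm : 1 < m) (ho : orderOf g = m) {ζ : ℂ}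
    (hζ : IsPrimitiveRoot ζ m) (k : ℕ) (hk : k % m ≠ 1)
    (hfus : ∀ i : ℕ, i < m → (IsConj (g ^ i) g ↔ i = 1 ∨ i = k % m))
    (c : IrrCharacter G → ℚ)
    (hc : ∀ χ : IrrCharacter G,
      ∑ i ∈ Finset.range m, (χ : G → ℂ) (g ^ i) * (ζ⁻¹) ^ i = (m : ℂ) * (c χ : ℂ)) :
    ∑ᶠ χ : IrrCharacter G, (c χ : ℂ) * (χ : G → ℂ) g =
      ((Nat.card (Subgroup.centralizer ({g} : Set G)) : ℂ) / (m : ℂ)) * (ζ + ζ ^ k) := by
  classical
  haveI : Fintype G := Fintype.ofFinite G
  letI : Fintype (IrrCharacter G) := Cfsg.Agent.Helper24.irrFintype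
  rw [finsum_eq_sum_of_fintype]
  have hm0 : (m : ℂ) ≠ 0 := by
    have : m ≠ 0 := by omega
    exact_mod_cast this
  have hmpos : 0 < m := by omega
  have hζm : ζ ^ m = 1 := hζ.pow_eq_one
  have hζ0 : ζ ≠ 0 := hζ.ne_zero (by omega)
  have hinvm : (ζ⁻¹) ^ m = 1 := by rw [inv_pow, hζm, inv_one]
  have hnorm : ‖ζ‖ = 1 := Complex.norm_eq_one_of_pow_eq_one hζm (by omega)
  have hconjζ : conj ζ = ζ⁻¹ := (Complex.inv_eq_conj hnorm).symm
  set C : ℂ := (Nat.card (Subgroup.centralizer ({g} : Set G)) : ℂ) with hC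
  -- the double sum, computed with the second orthogonality relation
  have hT1 : ∑ χ : IrrCharacter G,
      (∑ i ∈ Finset.range m, (χ : G → ℂ) (g ^ i) * (ζ⁻¹) ^ i) * conj ((χ : G → ℂ) g) =
      C * (ζ⁻¹ + (ζ⁻¹) ^ k) := by
    have hswap : ∑ χ : IrrCharacter G,
        (∑ i ∈ Finset.range m, (χ : G → ℂ) (g ^ i) * (ζ⁻¹) ^ i) * conj ((χ : G → ℂ) g) =
        ∑ i ∈ Finset.range m, (ζ⁻¹) ^ i *
          ∑ χ : IrrCharacter G, (χ : G → ℂ) (g ^ i) * conj ((χ : G → ℂ) g) := by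
      simp only [Finset.sum_mul, Finset.mul_sum]
      rw [Finset.sum_comm]
      refine Finset.sum_congr rfl fun i _ => Finset.sum_congr rfl fun χ _ => ?_
      ring
    rw [hswap]
    have hterm : ∀ i ∈ Finset.range m, (ζ⁻¹) ^ i *
        ∑ χ : IrrCharacter G, (χ : G → ℂ) (g ^ i) * conj ((χ : G → ℂ) g) =
        (if i = 1 then (ζ⁻¹) ^ i * C else 0) + (if i = k % m then (ζ⁻¹) ^ i * C else 0) := by
      intro i hi
      rw [Finset.mem_range] at hi
      rw [Cfsg.Agent.Helper24.second_orthogonality' (g ^ i) g]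
      have hiff : IsConj g (g ^ i) ↔ i = 1 ∨ i = k % m :=
        ⟨fun h => (hfus i hi).mp h.symm, fun h => ((hfus i hi).mpr h).symm⟩
      by_cases h1 : i = 1
      · have h2 : ¬ i = k % m := by
          intro h2; apply hk; rw [← h2, h1]
        rw [if_pos (hiff.mpr (Or.inl h1)), if_pos h1, if_neg h2, add_zero]
      · by_cases h2 : i = k % m
        · rw [if_pos (hiff.mpr (Or.inr h2)), if_neg h1, if_pos h2, zero_add]
        · have : ¬ IsConj g (g ^ i) := fun h => by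
            rcases hiff.mp h with h | h
            · exact h1 h
            · exact h2 h
          rw [if_neg this, if_neg h1, if_neg h2, mul_zero, add_zero]
    rw [Finset.sum_congr rfl hterm, Finset.sum_add_distrib, Finset.sum_ite_eq', Finset.sum_ite_eq']
    have hmem1 : 1 ∈ Finset.range m := Finset.mem_range.mpr hm
    have hmemk : k % m ∈ Finset.range m := Finset.mem_range.mpr (Nat.mod_lt _ hmpos)
    rw [if_pos hmem1, if_pos hmemk]
    have hpowmod : (ζ⁻¹) ^ (k % m) = (ζ⁻¹) ^ k := by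
      conv_rhs => rw [← Nat.div_add_mod k m, pow_add, pow_mul, hinvm, one_pow, one_mul]
    rw [hpowmod, pow_one]
    ring
  have hT2 : ∑ χ : IrrCharacter G,
      (∑ i ∈ Finset.range m, (χ : G → ℂ) (g ^ i) * (ζ⁻¹) ^ i) * conj ((χ : G → ℂ) g) =
      (m : ℂ) * ∑ χ : IrrCharacter G, (c χ : ℂ) * conj ((χ : G → ℂ) g) := by
    rw [Finset.mul_sum]
    refine Finset.sum_congr rfl fun χ _ => ?_
    rw [hc χ]
    ring
  have hmain : (m : ℂ) * ∑ χ : IrrCharacter G, (c χ : ℂ) * conj ((χ : G → ℂ) g) =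
      C * (ζ⁻¹ + (ζ⁻¹) ^ k) := by rw [← hT2, hT1]
  -- complex conjugation
  have hconj := congrArg (starRingEnd ℂ) hmain
  have hCconj : conj C = C := by rw [hC]; exact Complex.conj_natCast _
  have hinvconj : conj (ζ⁻¹) = ζ := by rw [map_inv₀, hconjζ, inv_inv]
  rw [map_mul, map_sum, Complex.conj_natCast, map_mul, hCconj, map_add, map_pow, hinvconj] at hconj
  have hsum : ∑ χ : IrrCharacter G, conj ((c χ : ℂ) * conj ((χ : G → ℂ) g)) =
      ∑ χ : IrrCharacter G, (c χ : ℂ) * (χ : G → ℂ) g := by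
    refine Finset.sum_congr rfl fun χ _ => ?_
    rw [map_mul, Complex.conj_conj]
    congr 1
    have : ((c χ : ℚ) : ℂ) = ((c χ : ℝ) : ℂ) := by push_cast; rfl
    rw [this, Complex.conj_ofReal]
  rw [hsum] at hconj
  rw [div_mul_eq_mul_div, eq_div_iff hm0, mul_comm]
  exact hconj

end Cfsg.Agent.Helper18.FV
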