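import Mathlib
import Cfsg.Agent.Lib.FV.FVDefs
import Cfsg.Agent.Lib.FV.FVROOTS

/-! S4923 piece FV-MULT (helper18 design; see plans/S4923_plan.md): the multiplicity of the eigenvalue `ζ` of
`ρ g`, computed as `(1/m) ∑_{i<m} χ(g^i) ζ⁻ⁱ`, is rational (a natural number). -/

set_option autoImplicit false

namespace Cfsg.Agent.Helper18.FV

open Cfsg

theorem exists_rat_mult {G : Type*} [Group G] [Finite G] (χ : IrrCharacter G) (g : G) {m : ℕ} (hm : 0 < m) (hg : g ^ m = 1)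
    {ζ : ℂ} (hζ : IsPrimitiveRoot ζ m) :
    ∃ c : ℚ, ∑ i ∈ Finset.range m, (χ : G → ℂ) (g ^ i) * (ζ⁻¹) ^ i = (m : ℂ) * (c : ℂ) := by
  classical
  obtain ⟨d, μ, hμ, hsum⟩ := exists_roots_of_pow_eq_one χ g hm hg
  have hζ0 : ζ ≠ 0 := hζ.ne_zero hm.ne'
  refine ⟨((Finset.univ.filter fun j : Fin d => μ j = ζ).card : ℚ), ?_⟩
  have h1 : ∑ i ∈ Finset.range m, (χ : G → ℂ) (g ^ i) * (ζ⁻¹) ^ i =
      ∑ j : Fin d, ∑ i ∈ Finset.range m, (μ j * ζ⁻¹) ^ i := by
    rw [Finset.sum_comm]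
    refine Finset.sum_congr rfl fun i _ => ?_
    rw [hsum i, Finset.sum_mul]
    refine Finset.sum_congr rfl fun j _ => ?_
    rw [mul_pow]
  have h2 : ∀ j : Fin d, ∑ i ∈ Finset.range m, (μ j * ζ⁻¹) ^ i = if μ j = ζ then (m : ℂ) else 0 := by
    intro j
    split_ifs with h
    · rw [h, mul_inv_cancel₀ hζ0]
      simp
    · have hne : μ j * ζ⁻¹ - 1 ≠ 0 := by
        intro h0
        apply h
        have : μ j * ζ⁻¹ = 1 := sub_eq_zero.mp h0
        calc μ j = μ j * ζ⁻¹ * ζ := by rw [mul_assoc, inv_mul_cancel₀ hζ0, mul_one]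
          _ = ζ := by rw [this, one_mul]
      have hpow : (μ j * ζ⁻¹) ^ m = 1 := by
        rw [mul_pow, hμ j, inv_pow, hζ.pow_eq_one, inv_one, mul_one]
      have hgeom := geom_sum_mul (μ j * ζ⁻¹) m
      rw [hpow, sub_self] at hgeom
      rcases mul_eq_zero.mp hgeom with h3 | h3
      · exact h3
      · exact absurd h3 hne
  rw [h1, Finset.sum_congr rfl fun j _ => h2 j, Finset.sum_ite, Finset.sum_const_zero, add_zero,
    Finset.sum_const, nsmul_eq_mul]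
  push_cast
  ring

end Cfsg.Agent.Helper18.FV
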