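import Mathlib
import Cfsg.Agent.Lib.FV.FVDefs
import Cfsg.Agent.Lib.FV.FVMULT
import Cfsg.Agent.Lib.FV.FVGESUM

/-! S4923 piece FV-GE (helper18 design; see plans/S4923_plan.md).  Proved by helper28 (from the statements
of FV-MULT `exists_rat_mult` and FV-GESUM `finsum_mult_mul_eq`).

`ζ + ζ^k ∈ ℚ(χ(g) : χ)`.
-/

set_option autoImplicit false

namespace Cfsg.Agent.Helper18.FV

open Cfsg

theorem add_pow_mem_valField {G : Type*} [Group G] [Finite G] {g : G} {m : ℕ} (hm : 1 < m) (ho : orderOf g = m) {ζ : ℂ}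
    (hζ : IsPrimitiveRoot ζ m) (k : ℕ) (hk : k % m ≠ 1)
    (hfus : ∀ i : ℕ, i < m → (IsConj (g ^ i) g ↔ i = 1 ∨ i = k % m)) :
    ζ + ζ ^ k ∈ valField g := by
  have hm0 : 0 < m := by omega
  have hgm : g ^ m = 1 := by rw [← ho]; exact pow_orderOf_eq_one g
  choose c hc using fun χ : IrrCharacter G => exists_rat_mult χ g hm0 hgm hζ
  have hsum := finsum_mult_mul_eq hm ho hζ k hk hfus c hc
  have hC : (Nat.card (Subgroup.centralizer ({g} : Set G)) : ℂ) ≠ 0 := by
    exact_mod_cast (Nat.card_pos (α := Subgroup.centralizer ({g} : Set G))).ne'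
  have hmC : (m : ℂ) ≠ 0 := by exact_mod_cast hm0.ne'
  have hmem : ∑ᶠ χ : IrrCharacter G, (c χ : ℂ) * (χ : G → ℂ) g ∈ valField g := by
    apply finsum_induction (fun z => z ∈ valField g)
    · exact zero_mem _
    · intro x y hx hy
      exact add_mem hx hy
    · intro χ
      exact mul_mem (SubfieldClass.ratCast_mem _ _) (mem_valField g χ)
  have e : ζ + ζ ^ k = ((m : ℂ) / (Nat.card (Subgroup.centralizer ({g} : Set G)) : ℂ)) *
      ∑ᶠ χ : IrrCharacter G, (c χ : ℂ) * (χ : G → ℂ) g := by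
    rw [hsum]
    field_simp
  rw [e]
  exact mul_mem (div_mem (natCast_mem _ _) (natCast_mem _ _)) hmem

end Cfsg.Agent.Helper18.FV
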