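import Mathlib
import Cfsg.Agent.Lib.FV.FVDefs

/-! S4923 piece FV-REC (helper18 design; see plans/S4923_plan.md): `x ^ a + y ^ a ∈ ℚ(x + y)` when `x * y` is
rational, by the two-step recursion `s (a + 2) = (x + y) * s (a + 1) - (x * y) * s a`. -/

set_option autoImplicit false

namespace Cfsg.Agent.Helper18.FV

open Cfsg

theorem pow_add_pow_mem (x y : ℂ) (q : ℚ) (hxy : x * y = (q : ℂ)) (a : ℕ) :
    x ^ a + y ^ a ∈ IntermediateField.adjoin ℚ ({x + y} : Set ℂ) := by
  set K := IntermediateField.adjoin ℚ ({x + y} : Set ℂ) with hK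
  have hs : x + y ∈ K := IntermediateField.subset_adjoin ℚ _ (Set.mem_singleton _)
  have hq : (q : ℂ) ∈ K := by
    have := K.algebraMap_mem q
    simpa using this
  have key : ∀ a : ℕ, x ^ a + y ^ a ∈ K ∧ x ^ (a + 1) + y ^ (a + 1) ∈ K := by
    intro a
    induction a with
    | zero =>
      refine ⟨?_, ?_⟩
      · have h2 : ((2 : ℚ) : ℂ) ∈ K := by
          have := K.algebraMap_mem 2
          simpa using this
        have : x ^ 0 + y ^ 0 = ((2 : ℚ) : ℂ) := by norm_num
        rw [this]; exact h2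
      · simpa using hs
    | succ a ih =>
      refine ⟨ih.2, ?_⟩
      have : x ^ (a + 1 + 1) + y ^ (a + 1 + 1) =
          (x + y) * (x ^ (a + 1) + y ^ (a + 1)) - (q : ℂ) * (x ^ a + y ^ a) := by
        rw [← hxy]; ring
      rw [this]
      exact K.sub_mem (K.mul_mem hs ih.2) (K.mul_mem hq ih.1)
  exact (key a).1

end Cfsg.Agent.Helper18.FV
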