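import Mathlib
import Cfsg.Agent.Lib.FV.FVDefs
import Cfsg.Agent.Lib.FV.FVREC
import Cfsg.Agent.Lib.FV.FVROOTS

/-! S4923 piece FV-LE (helper18 design; see plans/S4923_plan.md). Proof by helper19. -/

set_option autoImplicit false

namespace Cfsg.Agent.Helper18.FV

open Cfsg

theorem valField_le_of_conj {G : Type*} [Group G] [Finite G] {g : G} {m : ℕ} (hm : 0 < m) (hg : g ^ m = 1) {ζ : ℂ}
    (hζ : IsPrimitiveRoot ζ m) (k : ℕ) (hconj : ∃ x : G, x * g * x⁻¹ = g ^ k) (q : ℚ)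
    (hq : ζ * ζ ^ k = (q : ℂ)) :
    valField g ≤ IntermediateField.adjoin ℚ ({ζ + ζ ^ k} : Set ℂ) := by
  rw [valField_le_iff]
  intro χ
  obtain ⟨d, μ, hμ, hχ⟩ := exists_roots_of_pow_eq_one χ g hm hg
  obtain ⟨x, hx⟩ := hconj
  have hcf : ∀ a b : G, (χ : G → ℂ) (b * a * b⁻¹) = (χ : G → ℂ) a := by
    obtain ⟨n, ρ, -, hρ⟩ := χ.2
    intro a b
    rw [← hρ]
    exact Representation.char_conj ρ a b
  have h1 : (χ : G → ℂ) g = ∑ i, μ i := by
    have := hχ 1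
    simpa using this
  have hk : (χ : G → ℂ) g = ∑ i, μ i ^ k := by
    rw [← hχ k, ← hx, hcf]
  have h2 : (χ : G → ℂ) g = (∑ i, (μ i + μ i ^ k)) / 2 := by
    rw [Finset.sum_add_distrib, ← h1, ← hk]
    ring
  rw [h2]
  have hm0 : NeZero m := ⟨hm.ne'⟩
  have hsum : (∑ i, (μ i + μ i ^ k)) ∈ IntermediateField.adjoin ℚ ({ζ + ζ ^ k} : Set ℂ) := by
    apply sum_mem
    intro i _
    obtain ⟨a, _, ha⟩ := hζ.eq_pow_of_pow_eq_one (hμ i)
    rw [← ha]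
    have h3 : (ζ ^ a) ^ k = (ζ ^ k) ^ a := by rw [← pow_mul, ← pow_mul, mul_comm]
    rw [h3]
    exact pow_add_pow_mem ζ (ζ ^ k) q hq a
  have h2mem : (2 : ℂ) ∈ IntermediateField.adjoin ℚ ({ζ + ζ ^ k} : Set ℂ) := by
    exact add_mem (one_mem _) (one_mem _) |> fun h => by
      have h2 : (2 : ℂ) = 1 + 1 := by norm_num
      rw [h2]; exact h
  exact div_mem hsum h2mem

end Cfsg.Agent.Helper18.FV
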