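import Mathlib
import Cfsg.Agent.Lib.FV.FVDefs
import Cfsg.Agent.Lib.FV.FVLE
import Cfsg.Agent.Lib.FV.FVGE
import Cfsg.Agent.Lib.FV.FVFUSDSQ
import Cfsg.Agent.Lib.FV.FVEVEN
import Cfsg.Agent.Lib.FV.FVDSQIDX

/-! S4923 (helper18 design): assembly of the forward direction. -/

set_option autoImplicit false

namespace Cfsg.Agent.Helper18.FV

open Cfsg Cfsg.Agent.Helper16

variable {G : Type*} [Group G] [Finite G]

theorem valField_eq_of_isDSQ (P : Sylow 2 G) {k : ℕ} {a x : ↥(P : Subgroup G)} (h : IsDSQ k a x)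
    (e : ℕ) (he : x * a * x⁻¹ = a ^ e) (he1 : e % 2 ^ k ≠ 1) {ζ : ℂ}
    (hζ : IsPrimitiveRoot ζ (2 ^ k)) (q : ℚ) (hq : ζ * ζ ^ e = (q : ℂ)) :
    valField (a : G) = IntermediateField.adjoin ℚ ({ζ + ζ ^ e} : Set ℂ) := by
  have hk := h.hk
  have hao : orderOf (a : G) = 2 ^ k := by rw [Subgroup.orderOf_coe]; exact h.hao
  have hm : 1 < 2 ^ k := Nat.one_lt_two_pow (by omega)
  have hconjG : (x : G) * (a : G) * (x : G)⁻¹ = (a : G) ^ e := by
    have := congrArg (Subtype.val) he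
    simpa using this
  apply le_antisymm
  · exact valField_le_of_conj (by positivity) (by rw [← hao]; exact pow_orderOf_eq_one _) hζ e
      ⟨(x : G), hconjG⟩ q hq
  · rw [IntermediateField.adjoin_le_iff, Set.singleton_subset_iff]
    exact add_pow_mem_valField hm hao hζ e he1 (fun i hi => isConj_pow_iff P h e he i hi)

theorem forward (P : Sylow 2 G) (n : ℕ) (hn : 3 ≤ n) (hP : Nat.card P = 2 ^ n) (ζ : ℂ)
    (hζ : IsPrimitiveRoot ζ (2 ^ (n - 1))) (hidx : (commutator ↥P).index = 4) :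
    ∃ g : G, g ∈ (P : Subgroup G) ∧ 2 ∣ (Subgroup.centralizer ({g} : Set G)).index ∧
      (valField g = IntermediateField.adjoin ℚ ({ζ + ζ⁻¹} : Set ℂ) ∨
        valField g = IntermediateField.adjoin ℚ ({ζ - ζ⁻¹} : Set ℂ)) := by
  obtain ⟨a, x, h⟩ := exists_isDSQ_of_index (X := ↥(P : Subgroup G)) n hn hP hidx
  have hao : orderOf (a : G) = 2 ^ (n - 1) := by rw [Subgroup.orderOf_coe]; exact h.hao
  have hζ1 : ζ ^ 2 ^ (n - 1) = 1 := hζ.pow_eq_one
  have hζ0 : ζ ≠ 0 := hζ.ne_zero (by positivity)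
  have h2pos : 0 < 2 ^ (n - 1) := by positivity
  have h4 : 4 ≤ 2 ^ (n - 1) := by
    calc 4 = 2 ^ 2 := by norm_num
      _ ≤ 2 ^ (n - 1) := Nat.pow_le_pow_right (by norm_num) (by omega)
  -- ζ ^ (2^(n-1) - 1) = ζ⁻¹
  have hζinv : ζ ^ (2 ^ (n - 1) - 1) = ζ⁻¹ := by
    apply eq_inv_of_mul_eq_one_left
    rw [← pow_succ, Nat.sub_add_cancel (by omega), hζ1]
  have hainv : a ^ (2 ^ (n - 1) - 1) = a⁻¹ := by
    rw [eq_inv_iff_mul_eq_one, ← pow_succ, Nat.sub_add_cancel (by omega), ← h.hao,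
      pow_orderOf_eq_one]
  refine ⟨(a : G), a.2, ?_, ?_⟩
  · apply two_dvd_index_centralizer P (by omega) hP ?_ hao
    refine ⟨x, x.2, a, a.2, ?_⟩
    intro hcomm
    apply h.not_comm
    apply Subtype.ext
    have h1 : (x : G) * (a : G) = (a : G) * (x : G) := hcomm
    show (x : G) * (a : G) * (x : G)⁻¹ = (a : G)
    rw [h1, mul_inv_cancel_right]
  · rcases h.hconj with hc | ⟨h3, hc⟩
    · left
      have he : x * a * x⁻¹ = a ^ (2 ^ (n - 1) - 1) := by rw [hainv]; exact hc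
      have he1 : (2 ^ (n - 1) - 1) % 2 ^ (n - 1) ≠ 1 := by
        rw [Nat.mod_eq_of_lt (by omega)]; omega
      have hq : ζ * ζ ^ (2 ^ (n - 1) - 1) = ((1 : ℚ) : ℂ) := by
        rw [hζinv, mul_inv_cancel₀ hζ0]; simp
      have := valField_eq_of_isDSQ P h _ he he1 hζ 1 hq
      rw [hζinv] at this
      exact this
    · right
      have hhalf : 2 ^ (n - 1) = 2 ^ (n - 1 - 1) * 2 := by
        rw [← pow_succ, Nat.sub_add_cancel (by omega)]
      have h4' : 4 ≤ 2 ^ (n - 1 - 1) := by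
        calc 4 = 2 ^ 2 := by norm_num
          _ ≤ 2 ^ (n - 1 - 1) := Nat.pow_le_pow_right (by norm_num) (by omega)
      have he : x * a * x⁻¹ = a ^ (2 ^ (n - 1) - 1 + 2 ^ (n - 1 - 1)) := by
        rw [pow_add, hainv]; exact hc
      have he1 : (2 ^ (n - 1) - 1 + 2 ^ (n - 1 - 1)) % 2 ^ (n - 1) ≠ 1 := by
        have : 2 ^ (n - 1) - 1 + 2 ^ (n - 1 - 1) = (2 ^ (n - 1 - 1) - 1) + 2 ^ (n - 1) := by omega
        rw [this, Nat.add_mod_right, Nat.mod_eq_of_lt (by omega)]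
        omega
      have hneg : ζ ^ 2 ^ (n - 1 - 1) = -1 := by
        have hsq : (ζ ^ 2 ^ (n - 1 - 1)) ^ 2 = 1 := by rw [← pow_mul, ← hhalf, hζ1]
        have hne : ζ ^ 2 ^ (n - 1 - 1) ≠ 1 := by
          intro h1
          have := hζ.dvd_of_pow_eq_one _ h1
          have := Nat.le_of_dvd (by positivity) this
          omega
        rcases sq_eq_one_iff.mp hsq with h1 | h1
        · exact absurd h1 hne
        · exact h1
      have hpow : ζ ^ (2 ^ (n - 1) - 1 + 2 ^ (n - 1 - 1)) = -ζ⁻¹ := by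
        rw [pow_add, hζinv, hneg]; ring
      have hq : ζ * ζ ^ (2 ^ (n - 1) - 1 + 2 ^ (n - 1 - 1)) = ((-1 : ℚ) : ℂ) := by
        rw [hpow]; field_simp; simp
      have := valField_eq_of_isDSQ P h _ he he1 hζ (-1) hq
      rw [hpow, ← sub_eq_add_neg] at this
      exact this

end Cfsg.Agent.Helper18.FV
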